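import Groth.Prelude.Def_Grpd
import Mathlib.AlgebraicGeometry.PullbackCarrier

/-!
Points of groupoid schemes: orbits, the shearing pullback square and the involution.
-/

set_option autoImplicit false
set_option backward.isDefEq.respectTransparency.types false

universe u

open CategoryTheory CategoryTheory.Limits AlgebraicGeometry

namespace Groth.L24.GrpdPt

variable {S : Scheme.{u}} (G : Grpd.GroupoidScheme S)

theorem c_s : G.c ≫ G.s = pullback.snd G.s G.t ≫ G.s := by
  have h := G.comp_s (pullback.fst G.s G.t) (pullback.snd G.s G.t) pullback.condition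
  rwa [show pullback.lift (pullback.fst G.s G.t) (pullback.snd G.s G.t) pullback.condition = 𝟙 _ from
    pullback.hom_ext (by simp) (by simp), Category.id_comp] at h

theorem c_t : G.c ≫ G.t = pullback.fst G.s G.t ≫ G.t := by
  have h := G.comp_t (pullback.fst G.s G.t) (pullback.snd G.s G.t) pullback.condition
  rwa [show pullback.lift (pullback.fst G.s G.t) (pullback.snd G.s G.t) pullback.condition = 𝟙 _ from
    pullback.hom_ext (by simp) (by simp), Category.id_comp] at h

theorem s_i (r : G.R) : G.s (G.i r) = G.t r := by rw [← Scheme.Hom.comp_apply, G.i_s]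

theorem t_i (r : G.R) : G.t (G.i r) = G.s r := by rw [← Scheme.Hom.comp_apply, G.i_t]

theorem exists_comp (a b : G.R) (h : G.s a = G.t b) : ∃ r : G.R, G.t r = G.t a ∧ G.s r = G.s b := by
  obtain ⟨z, h₁, h₂⟩ := Scheme.Pullback.exists_preimage_pullback a b h
  refine ⟨G.c z, ?_, ?_⟩
  · rw [← Scheme.Hom.comp_apply, c_t, Scheme.Hom.comp_apply, h₁]
  · rw [← Scheme.Hom.comp_apply, c_s, Scheme.Hom.comp_apply, h₂]

theorem preimage_saturation (W : Set G.U) :
    ⇑G.s ⁻¹' (⇑G.t '' (⇑G.s ⁻¹' W)) = ⇑G.t ⁻¹' (⇑G.t '' (⇑G.s ⁻¹' W)) := by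
  ext r
  constructor
  · rintro ⟨q, hq, hqr⟩
    obtain ⟨r', h₁, h₂⟩ := exists_comp G r q hqr.symm
    exact ⟨r', show G.s r' ∈ W from h₂ ▸ hq, h₁⟩
  · rintro ⟨q, hq, hqr⟩
    obtain ⟨r', h₁, h₂⟩ := exists_comp G (G.i r) q (by rw [s_i]; exact hqr.symm)
    exact ⟨r', show G.s r' ∈ W from h₂ ▸ hq, h₁.trans (t_i G r)⟩

theorem lift_congr {T : Scheme.{u}} {α α' β β' : T ⟶ G.R} {h : α ≫ G.s = β ≫ G.t} {h' : α' ≫ G.s = β' ≫ G.t}
    (ha : α = α') (hb : β = β') : pullback.lift α β h ≫ G.c = pullback.lift α' β' h' ≫ G.c := by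
  subst ha; subst hb; rfl

/-- Right cancellation. -/
theorem comp_inj {T : Scheme.{u}} {α α' β : T ⟶ G.R} (h : α ≫ G.s = β ≫ G.t) (h' : α' ≫ G.s = β ≫ G.t)
    (e : pullback.lift α β h ≫ G.c = pullback.lift α' β h' ≫ G.c) : α = α' := by
  have key : ∀ (γ : T ⟶ G.R) (hγ : γ ≫ G.s = β ≫ G.t),
      pullback.lift (pullback.lift γ β hγ ≫ G.c) (β ≫ G.i)
        ((G.comp_s γ β hγ).trans (by rw [Category.assoc, G.i_t])) ≫ G.c = γ := fun γ hγ => by
    rw [G.assoc γ β (β ≫ G.i) hγ (by rw [Category.assoc, G.i_t])]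
    refine Eq.trans (lift_congr G rfl ?_) (G.comp_e γ)
    rw [G.comp_i β, reassoc_of% hγ]
  rw [← key α h, ← key α' h']
  exact lift_congr G e rfl

theorem isPullback_c : IsPullback G.c (pullback.snd G.s G.t) G.s G.s := by
  refine IsPullback.mk' (c_s G) (fun T l l' h₁ h₂ => pullback.hom_ext ?_ h₂) fun T γ β e => ?_
  · have hl : ∀ m : T ⟶ pullback G.s G.t, pullback.lift (m ≫ pullback.fst G.s G.t) (m ≫ pullback.snd G.s G.t)
        (by rw [Category.assoc, Category.assoc, pullback.condition]) = m := fun m =>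
      pullback.hom_ext (pullback.lift_fst _ _ _) (pullback.lift_snd _ _ _)
    refine comp_inj G (β := l ≫ pullback.snd G.s G.t) (by rw [Category.assoc, Category.assoc, pullback.condition])
      (by rw [h₂, Category.assoc, Category.assoc, pullback.condition]) ?_
    rw [hl l, h₁]
    conv_lhs => rw [← hl l']
    exact lift_congr G rfl h₂.symm
  · have h0 : γ ≫ G.s = (β ≫ G.i) ≫ G.t := by rw [Category.assoc, G.i_t, e]
    have h1 : (pullback.lift γ (β ≫ G.i) h0 ≫ G.c) ≫ G.s = β ≫ G.t := by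
      rw [G.comp_s γ (β ≫ G.i) h0, Category.assoc, G.i_s]
    refine ⟨pullback.lift _ β h1, ?_, pullback.lift_snd _ _ _⟩
    rw [G.assoc γ (β ≫ G.i) β h0 (by rw [Category.assoc, G.i_s])]
    refine Eq.trans (lift_congr G rfl ?_) (G.comp_e γ)
    rw [G.i_comp β, reassoc_of% e]

theorem i_i : G.i ≫ G.i = 𝟙 G.R := by
  refine comp_inj G (β := G.i) (by rw [Category.assoc, G.i_s]) (by rw [Category.id_comp, G.i_t]) ?_
  have h₁ := G.i_comp G.i
  have h₂ := G.comp_i (𝟙 G.R)
  rw [reassoc_of% G.i_s] at h₁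
  rw [h₁]
  exact (h₂.trans (Category.id_comp _)).symm.trans (lift_congr G rfl (Category.id_comp _))

theorem isIso_i : IsIso G.i := ⟨G.i, i_i G, i_i G⟩

end Groth.L24.GrpdPt
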