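import Groth.Agent.L24.GrpdPt.Basic
import Mathlib.AlgebraicGeometry.Morphisms.Finite
import Mathlib.AlgebraicGeometry.Morphisms.QuasiFinite
import Mathlib.Order.Preorder.Finite

/-!
Finite orbits.
-/

set_option autoImplicit false

universe u

open CategoryTheory AlgebraicGeometry Topology

namespace Groth.L24.GrpdPt

theorem eq_of_specializes_discrete {X : Type u} [TopologicalSpace X] {Y : Type u} {f : X → Y} {a b : X}
    (hd : IsDiscrete (f ⁻¹' {f a})) (h : a ⤳ b) (ha : f a = f a) (hb : f b = f a) : b = a := by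
  haveI := hd.to_subtype
  have := (IsInducing.subtypeVal.specializes_iff (x := (⟨a, ha⟩ : f ⁻¹' {f a})) (y := ⟨b, hb⟩)).1 h
  exact (congrArg Subtype.val this.eq).symm

theorem false_of_finite {X : Type u} [TopologicalSpace X] [T0Space X] {O : Set X} (hO : O.Finite) {x : X} (hx : x ∈ O)
    (key : ∀ w ∈ O, ∃ w' ∈ O, w ⤳ w' ∧ w' ≠ w) : False := by
  obtain ⟨w, hw, hmax⟩ := hO.exists_minimalFor (fun w => closure ({w} : Set X)) O ⟨x, hx⟩
  obtain ⟨w', hw', hs, hne⟩ := key w hw
  have h1 : closure ({w'} : Set X) ≤ closure {w} := specializes_iff_closure_subset.1 hs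
  exact hne ((specializes_iff_closure_subset.2 (hmax hw' h1)).antisymm hs).eq

end Groth.L24.GrpdPt
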